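import Mathlib
import Groth.Prelude.Def_Tors

/-! Torsors under an abelian sheaf and degree one cohomology. -/

set_option autoImplicit false

universe u

open CategoryTheory CategoryTheory.Limits Opposite Abelian

namespace Groth.Agent.TorsH1

variable {C : Type u} [SmallCategory C] {J : GrothendieckTopology C}

/-- A natural family of sections. -/
def IsFamily (F : Cᵒᵖ ⥤ AddCommGrpCat.{u}) (s : ∀ U, F.obj U) : Prop :=
  ∀ ⦃U V : Cᵒᵖ⦄ (f : U ⟶ V), F.map f (s U) = s V

noncomputable abbrev Zc (J : GrothendieckTopology C) : Sheaf J AddCommGrpCat.{u} :=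
  (constantSheaf J AddCommGrpCat.{u}).obj (AddCommGrpCat.of (ULift.{u} ℤ))

/-- The constant presheaf to the family. -/
noncomputable def presheafHom {F : Cᵒᵖ ⥤ AddCommGrpCat.{u}} (s : ∀ U, F.obj U) (hs : IsFamily F s) :
    (Functor.const Cᵒᵖ).obj (AddCommGrpCat.of (ULift.{u} ℤ)) ⟶ F where
  app U := AddCommGrpCat.ofHom ((zmultiplesHom _ (s U)).comp AddEquiv.ulift.toAddMonoidHom)
  naturality {U V} f := by
    refine AddCommGrpCat.hom_ext (AddMonoidHom.ext fun n => ?_)
    show n.down • s V = F.map f (n.down • s U)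
    rw [map_zsmul, hs f]

theorem presheafHom_one {F : Cᵒᵖ ⥤ AddCommGrpCat.{u}} (s : ∀ U, F.obj U) (hs : IsFamily F s) (U : Cᵒᵖ) :
    (presheafHom s hs).app U (ULift.up 1) = s U := one_zsmul _

theorem presheafHom_ext {F : Cᵒᵖ ⥤ AddCommGrpCat.{u}}
    {f g : (Functor.const Cᵒᵖ).obj (AddCommGrpCat.of (ULift.{u} ℤ)) ⟶ F}
    (h : ∀ U, f.app U (ULift.up 1) = g.app U (ULift.up 1)) : f = g := by
  ext U : 2
  refine AddCommGrpCat.hom_ext (AddMonoidHom.ext fun n => ?_)
  rw [show n = n.down • (ULift.up 1 : ULift.{u} ℤ) from ULift.ext _ _ (by simp), map_zsmul, map_zsmul]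
  exact congrArg (n.down • ·) (h U)

/-- The adjunction. -/
noncomputable def homEquiv (F : Sheaf J AddCommGrpCat.{u}) :
    (Zc J ⟶ F) ≃ ((Functor.const Cᵒᵖ).obj (AddCommGrpCat.of (ULift.{u} ℤ)) ⟶ F.obj) :=
  (sheafificationAdjunction J AddCommGrpCat.{u}).homEquiv _ F

/-- The sections of a morphism out of the constant sheaf. -/
noncomputable def secs {F : Sheaf J AddCommGrpCat.{u}} (σ : Zc J ⟶ F) (U : Cᵒᵖ) : F.obj.obj U :=
  (homEquiv F σ).app U (ULift.up 1)

theorem isFamily_secs {F : Sheaf J AddCommGrpCat.{u}} (σ : Zc J ⟶ F) : IsFamily F.obj (secs σ) := by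
  intro U V f
  exact (ConcreteCategory.congr_hom ((homEquiv F σ).naturality f) (ULift.up 1)).symm

theorem secs_comp {F F' : Sheaf J AddCommGrpCat.{u}} (σ : Zc J ⟶ F) (g : F ⟶ F') (U : Cᵒᵖ) :
    secs (σ ≫ g) U = g.hom.app U (secs σ U) :=
  (ConcreteCategory.congr_hom (congrArg (fun φ => NatTrans.app φ U)
    ((sheafificationAdjunction J AddCommGrpCat.{u}).homEquiv_naturality_right σ g)) (ULift.up 1)).trans rfl

theorem secs_ext {F : Sheaf J AddCommGrpCat.{u}} {σ σ' : Zc J ⟶ F} (h : ∀ U, secs σ U = secs σ' U) : σ = σ' :=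
  (homEquiv F).injective (presheafHom_ext h)

theorem exists_secs {F : Sheaf J AddCommGrpCat.{u}} {s : ∀ U, F.obj.obj U} (hs : IsFamily F.obj s) :
    ∃ σ : Zc J ⟶ F, ∀ U, secs σ U = s U :=
  ⟨(homEquiv F).symm (presheafHom s hs), fun U => by
    rw [secs, Equiv.apply_symm_apply, presheafHom_one]⟩

/-! ### sections of a short exact sequence -/

variable {S : ShortComplex (Sheaf J AddCommGrpCat.{u})}

theorem f_injective (hS : S.ShortExact) (U : Cᵒᵖ) : Function.Injective (S.f.hom.app U) := by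
  have := hS.mono_f
  have h1 : Mono ((sheafToPresheaf J _).map S.f) := inferInstance
  have h2 : Mono (((sheafToPresheaf J _).map S.f).app U) := inferInstance
  exact (AddCommGrpCat.mono_iff_injective _).1 h2

theorem exists_of_g_eq_zero (hS : S.ShortExact) {U : Cᵒᵖ} {x : S.X₂.obj.obj U} (hx : S.g.hom.app U x = 0) :
    ∃ y, S.f.hom.app U y = x := by
  have := hS.mono_f
  let Φ : Sheaf J AddCommGrpCat.{u} ⥤ AddCommGrpCat.{u} := sheafToPresheaf J _ ⋙ (evaluation Cᵒᵖ _).obj U
  have : PreservesFiniteLimits Φ := comp_preservesFiniteLimits _ _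
  have : Mono (Φ.map S.f) := inferInstance
  have h1 := (S.map Φ).exact_of_f_is_kernel
    (KernelFork.mapIsLimit _ hS.exact.fIsKernel Φ)
  rw [ShortComplex.ab_exact_iff] at h1
  exact h1 x hx

theorem locally_g_surjective (hS : S.ShortExact) (U : C) (x : S.X₃.obj.obj (op U)) :
    ∃ R ∈ J U, ∀ ⦃V : C⦄ (f : V ⟶ U), R f → ∃ y, S.g.hom.app (op V) y = S.X₃.obj.map f.op x := by
  have := hS.epi_g
  have h : Sheaf.IsLocallySurjective S.g := (Sheaf.isLocallySurjective_iff_epi' _ _).2 inferInstance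
  exact ⟨_, Presheaf.imageSieve_mem J S.g.hom x, fun V f hf => hf⟩

/-- Separatedness. -/
theorem eq_of_locally {F : Cᵒᵖ ⥤ Type u} (hF : Presieve.IsSheaf J F) {U : C} {R : Sieve U} (hR : R ∈ J U)
    {x y : F.obj (op U)} (h : ∀ ⦃V : C⦄ (f : V ⟶ U), R f → F.map f.op x = F.map f.op y) : x = y :=
  (hF R hR).isSeparatedFor.ext h

theorem isSheafTypes (F : Sheaf J AddCommGrpCat.{u}) :
    Presieve.IsSheaf J (F.obj ⋙ forget AddCommGrpCat.{u}) :=
  (isSheaf_iff_isSheaf_of_type _ _).1 ((sheafCompose J (forget AddCommGrpCat.{u})).obj F).property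

/-! ### the torsor of lifts of a section -/

section lifts

variable (hS : S.ShortExact) (s : ∀ U, S.X₃.obj.obj U) (hs : IsFamily S.X₃.obj s)

/-- Lifts of `s`. -/
noncomputable def liftsPresheaf : Cᵒᵖ ⥤ Type u where
  obj U := {i : S.X₂.obj.obj U // S.g.hom.app U i = s U}
  map {U V} f := ↾fun i => ⟨S.X₂.obj.map f i.1, by
    rw [NatTrans.naturality_apply S.g.hom f i.1, i.2, hs f]⟩
  map_id U := by
    ext i
    show S.X₂.obj.map (𝟙 U) i.1 = i.1
    rw [CategoryTheory.Functor.map_id]; rfl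
  map_comp f g := by
    ext i
    show S.X₂.obj.map (f ≫ g) i.1 = S.X₂.obj.map g (S.X₂.obj.map f i.1)
    rw [CategoryTheory.Functor.map_comp]; rfl

theorem isSheaf_lifts : Presieve.IsSheaf J (liftsPresheaf s hs) := by
  intro U R hR x hx
  let x' : Presieve.FamilyOfElements (S.X₂.obj ⋙ forget AddCommGrpCat.{u}) R.arrows := fun V f hf => (x f hf).1
  have hx' : x'.Compatible := fun Y₁ Y₂ Z g₁ g₂ f₁ f₂ h₁ h₂ w => congrArg Subtype.val (hx g₁ g₂ h₁ h₂ w)
  obtain ⟨i, hi, huniq⟩ := isSheafTypes S.X₂ R hR x' hx'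
  have hg : S.g.hom.app (op U) i = s (op U) := by
    refine eq_of_locally (isSheafTypes S.X₃) hR fun V f hf => ?_
    show S.X₃.obj.map f.op (S.g.hom.app (op U) i) = S.X₃.obj.map f.op (s (op U))
    rw [← NatTrans.naturality_apply S.g.hom f.op i, hs f.op]
    have h1 : S.X₂.obj.map f.op i = (x f hf).1 := hi f hf
    rw [h1]
    exact (x f hf).2
  exact ⟨⟨i, hg⟩, fun V f hf => Subtype.ext (hi f hf),
    fun j hj => Subtype.ext (huniq j.1 fun V f hf => congrArg Subtype.val (hj f hf))⟩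

/-- The torsor of lifts. -/
noncomputable def liftsTorsor : Tors.Torsor S.X₁ where
  P := ⟨liftsPresheaf s hs, (isSheaf_iff_isSheaf_of_type _ _).2 (isSheaf_lifts s hs)⟩
  vadd {U} g i := ⟨S.f.hom.app U g + i.1, by
    rw [map_add, i.2, show S.g.hom.app U (S.f.hom.app U g) = 0 from
      ConcreteCategory.congr_hom (congrArg (fun φ => φ.hom.app U) S.zero) g, zero_add]⟩
  zero_vadd i := Subtype.ext (show _ + i.1 = i.1 by rw [map_zero, zero_add])
  add_vadd g h i := Subtype.ext (show _ + i.1 = _ + (_ + i.1) by rw [map_add, add_assoc])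
  map_vadd {U V} f g i := Subtype.ext (show S.X₂.obj.map f (_ + i.1) = _ + S.X₂.obj.map f i.1 by
    rw [map_add, NatTrans.naturality_apply S.f.hom f g])
  free_transitive {U} p q := by
    obtain ⟨g, hg⟩ := exists_of_g_eq_zero hS (x := q.1 - p.1) (by rw [map_sub, q.2, p.2, sub_self])
    refine ⟨g, Subtype.ext (show _ + p.1 = q.1 by rw [hg, sub_add_cancel]), fun g' hg' => f_injective hS U ?_⟩
    rw [hg, eq_sub_iff_add_eq]
    exact congrArg Subtype.val hg'
  locally_nonempty U := by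
    obtain ⟨R, hR, h⟩ := locally_g_surjective hS U (s (op U))
    exact ⟨R, hR, fun V f hf => ⟨⟨(h f hf).choose, (h f hf).choose_spec.trans (hs f.op)⟩⟩⟩

end lifts

/-- A global section as a compatible family. -/
theorem exists_pts {G : Sheaf J AddCommGrpCat.{u}} (T : Tors.Torsor G) (h : T.HasSection) :
    ∃ pt : ∀ U, T.P.obj.obj U, ∀ ⦃U V : Cᵒᵖ⦄ (f : U ⟶ V), T.P.obj.map f (pt U) = pt V := by
  obtain ⟨s⟩ := h
  let Z : Sheaf J (Type u) := ⟨(Functor.const Cᵒᵖ).obj PUnit.{u + 1}, by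
    rw [isSheaf_iff_isSheaf_of_type]
    intro U S _ x _
    exact ⟨PUnit.unit, fun V u hu => rfl, fun _ _ => rfl⟩⟩
  let σ : Z ⟶ T.P := Limits.terminal.from Z ≫ s
  exact ⟨fun U => σ.hom.app U PUnit.unit, fun U V u =>
    (CategoryTheory.NatTrans.naturality_apply σ.hom u PUnit.unit).symm⟩

theorem hasSection_of_pts {G : Sheaf J AddCommGrpCat.{u}} (T : Tors.Torsor G) (pt : ∀ U, T.P.obj.obj U)
    (hpt : ∀ ⦃U V : Cᵒᵖ⦄ (f : U ⟶ V), T.P.obj.map f (pt U) = pt V) : T.HasSection :=
  ⟨⟨{ app := fun U => ↾fun _ => pt U, naturality := fun U V f => by ext _; exact (hpt f).symm }⟩⟩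

theorem comp_extClass_eq_zero_of_hasSection (hS : S.ShortExact) [HasExt.{u} (Sheaf J AddCommGrpCat.{u})]
    (σ : Zc J ⟶ S.X₃) (h : (liftsTorsor hS (secs σ) (isFamily_secs σ)).HasSection) :
    (Ext.mk₀ σ).comp hS.extClass (zero_add 1) = 0 := by
  obtain ⟨pt, hpt⟩ := exists_pts _ h
  have hfam : IsFamily S.X₂.obj (fun U => (pt U).1) := fun U V f => congrArg Subtype.val (hpt f)
  obtain ⟨τ, hτ⟩ := exists_secs hfam
  have e : τ ≫ S.g = σ := secs_ext fun U => by rw [secs_comp, hτ]; exact (pt U).2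
  rw [← e, ← Ext.mk₀_comp_mk₀, Ext.comp_assoc_of_second_deg_zero, hS.comp_extClass, Ext.comp_zero]

/-! ### a torsor maps equivariantly to an injective sheaf -/

variable {G : Sheaf J AddCommGrpCat.{u}} (T : Tors.Torsor G)

/-- The difference of two sections. -/
noncomputable def diff {U : Cᵒᵖ} (p q : T.P.obj.obj U) : G.obj.obj U := (T.free_transitive q p).choose

theorem diff_vadd {U : Cᵒᵖ} (p q : T.P.obj.obj U) : T.vadd (diff T p q) q = p :=
  (T.free_transitive q p).choose_spec.1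

theorem diff_eq {U : Cᵒᵖ} {p q : T.P.obj.obj U} {g : G.obj.obj U} (h : T.vadd g q = p) : diff T p q = g :=
  (T.free_transitive q p).unique (diff_vadd T p q) h

theorem diff_add {U : Cᵒᵖ} (p q r : T.P.obj.obj U) : diff T p q + diff T q r = diff T p r :=
  (diff_eq T (by rw [T.add_vadd, diff_vadd, diff_vadd])).symm

theorem diff_map {U V : Cᵒᵖ} (f : U ⟶ V) (p q : T.P.obj.obj U) :
    G.obj.map f (diff T p q) = diff T (T.P.obj.map f p) (T.P.obj.map f q) :=
  (diff_eq T (by rw [← T.map_vadd, diff_vadd])).symm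

/-- Free abelian presheaf on the torsor. -/
noncomputable def freeT : Cᵒᵖ ⥤ AddCommGrpCat.{u} where
  obj U := AddCommGrpCat.of (T.P.obj.obj U →₀ ℤ)
  map {U V} f := AddCommGrpCat.ofHom (Finsupp.mapDomain.addMonoidHom (fun p => T.P.obj.map f p))
  map_id U := by
    refine AddCommGrpCat.hom_ext (AddMonoidHom.ext fun x => ?_)
    show Finsupp.mapDomain _ x = x
    conv_rhs => rw [← Finsupp.mapDomain_id (v := x)]
    congr 1; funext p; simp
  map_comp {U V W} f g := by
    refine AddCommGrpCat.hom_ext (AddMonoidHom.ext fun x => ?_)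
    show Finsupp.mapDomain _ x = Finsupp.mapDomain _ (Finsupp.mapDomain _ x)
    rw [← Finsupp.mapDomain_comp]
    congr 1; funext p; simp

/-- The degree. -/
noncomputable def aug (U : Cᵒᵖ) : (T.P.obj.obj U →₀ ℤ) →+ ℤ :=
  Finsupp.liftAddHom fun _ => AddMonoidHom.id ℤ

theorem aug_map {U V : Cᵒᵖ} (f : U ⟶ V) (x : T.P.obj.obj U →₀ ℤ) :
    aug T V (Finsupp.mapDomain (fun p => T.P.obj.map f p) x) = aug T U x := by
  induction x using Finsupp.induction_linear with
  | zero => simp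
  | add a b ha hb => rw [Finsupp.mapDomain_add, map_add, map_add, ha, hb]
  | single p n => simp [aug]

/-- Degree zero part. -/
noncomputable def degZero : Cᵒᵖ ⥤ AddCommGrpCat.{u} where
  obj U := AddCommGrpCat.of (aug T U).ker
  map {U V} f := AddCommGrpCat.ofHom
    (((freeT T).map f).hom.comp (aug T U).ker.subtype |>.codRestrict (aug T V).ker fun x => by
      show aug T V (Finsupp.mapDomain (fun p => T.P.obj.map f p) x.1) = 0
      exact (aug_map T f x.1).trans (AddMonoidHom.mem_ker.1 x.2))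
  map_id U := by
    refine AddCommGrpCat.hom_ext (AddMonoidHom.ext fun x => Subtype.ext ?_)
    show (freeT T).map (𝟙 U) x.1 = x.1
    rw [CategoryTheory.Functor.map_id]; rfl
  map_comp {U V W} f g := by
    refine AddCommGrpCat.hom_ext (AddMonoidHom.ext fun x => Subtype.ext ?_)
    show (freeT T).map (f ≫ g) x.1 = (freeT T).map g ((freeT T).map f x.1)
    rw [CategoryTheory.Functor.map_comp]; rfl

/-- Linear extension of differences with a base point. -/
noncomputable def wt {U : Cᵒᵖ} (q : T.P.obj.obj U) : (T.P.obj.obj U →₀ ℤ) →+ G.obj.obj U :=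
  Finsupp.liftAddHom fun p => zmultiplesHom _ (diff T p q)

theorem wt_change {U : Cᵒᵖ} (q r : T.P.obj.obj U) (x : T.P.obj.obj U →₀ ℤ) :
    wt T r x = wt T q x + aug T U x • diff T q r := by
  induction x using Finsupp.induction_linear with
  | zero => simp
  | add a b ha hb => rw [map_add, map_add, map_add, ha, hb, add_smul]; abel
  | single p n => simp [wt, aug, ← smul_add, diff_add]

theorem wt_map {U V : Cᵒᵖ} (f : U ⟶ V) (q : T.P.obj.obj U) (x : T.P.obj.obj U →₀ ℤ) :
    G.obj.map f (wt T q x) = wt T (T.P.obj.map f q) (Finsupp.mapDomain (fun p => T.P.obj.map f p) x) := by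
  induction x using Finsupp.induction_linear with
  | zero => simp
  | add a b ha hb => rw [map_add, map_add, Finsupp.mapDomain_add, map_add, ha, hb]
  | single p n => simp [wt, diff_map]

/-- Degree zero cycles to the group. -/
noncomputable def eta (U : Cᵒᵖ) : (aug T U).ker →+ G.obj.obj U :=
  haveI := Classical.propDecidable (Nonempty (T.P.obj.obj U))
  if h : Nonempty (T.P.obj.obj U) then (wt T h.some).comp (aug T U).ker.subtype else 0

theorem eta_eq {U : Cᵒᵖ} (q : T.P.obj.obj U) (x : (aug T U).ker) : eta T U x = wt T q x.1 := by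
  rw [eta, dif_pos ⟨q⟩]
  show wt T _ x.1 = _
  rw [wt_change T q, AddMonoidHom.mem_ker.1 x.2, zero_smul, add_zero]

theorem eta_natural {U V : Cᵒᵖ} (f : U ⟶ V) (x : (aug T U).ker) :
    eta T V ⟨Finsupp.mapDomain (fun p => T.P.obj.map f p) x.1,
      AddMonoidHom.mem_ker.2 ((aug_map T f x.1).trans (AddMonoidHom.mem_ker.1 x.2))⟩ = G.obj.map f (eta T U x) := by
  rcases isEmpty_or_nonempty (T.P.obj.obj U) with hU | ⟨⟨q⟩⟩
  · have : x = 0 := Subtype.ext (Subsingleton.elim _ _)
    subst this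
    simp only [AddSubgroup.coe_zero, Finsupp.mapDomain_zero, map_zero]
    exact map_zero (eta T V)
  · rw [eta_eq T (T.P.obj.map f q), eta_eq T q, wt_map]

/-- The natural map. -/
noncomputable def etaNat : degZero T ⟶ G.obj where
  app U := AddCommGrpCat.ofHom (eta T U)
  naturality {U V} f := AddCommGrpCat.hom_ext (AddMonoidHom.ext fun x => eta_natural T f x)

/-- The inclusion. -/
noncomputable def degZeroIncl : degZero T ⟶ freeT T where
  app U := AddCommGrpCat.ofHom (aug T U).ker.subtype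

instance : Mono (degZeroIncl T) :=
  have : ∀ U, Mono ((degZeroIncl T).app U) := fun U =>
    (AddCommGrpCat.mono_iff_injective _).2 Subtype.val_injective
  NatTrans.mono_of_mono_app _

theorem exists_equivariant (I : Sheaf J AddCommGrpCat.{u}) [Injective I] (ι : G ⟶ I) :
    ∃ f : ∀ U, T.P.obj.obj U → I.obj.obj U,
      (∀ ⦃U V : Cᵒᵖ⦄ (a : U ⟶ V) p, I.obj.map a (f U p) = f V (T.P.obj.map a p)) ∧
      ∀ U g p, f U (T.vadd g p) = ι.hom.app U g + f U p := by
  have : Injective I.obj := Injective.injective_of_adjoint (sheafificationAdjunction J AddCommGrpCat.{u}) I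
  obtain ⟨Φ₀, hΦ₀⟩ : ∃ Φ₀, degZeroIncl T ≫ Φ₀ = etaNat T ≫ ι.hom :=
    ⟨_, Injective.comp_factorThru (etaNat T ≫ ι.hom) (degZeroIncl T)⟩
  let Φ : ∀ U, (T.P.obj.obj U →₀ ℤ) →+ I.obj.obj U := fun U => (Φ₀.app U).hom
  have hnat : ∀ ⦃U V : Cᵒᵖ⦄ (a : U ⟶ V) (x : T.P.obj.obj U →₀ ℤ),
      I.obj.map a (Φ U x) = Φ V (Finsupp.mapDomain (fun p => T.P.obj.map a p) x) := fun U V a x =>
    (ConcreteCategory.congr_hom (Φ₀.naturality a) x).symm
  have hcomp : ∀ U (x : (aug T U).ker), Φ U x.1 = ι.hom.app U (eta T U x) := fun U x =>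
    ConcreteCategory.congr_hom (congrArg (fun φ => NatTrans.app φ U) hΦ₀) x
  refine ⟨fun U p => Φ U (Finsupp.single p 1), fun U V a p => ?_, fun U g p => ?_⟩
  · show I.obj.map a (Φ U (Finsupp.single p 1)) = _
    rw [hnat, Finsupp.mapDomain_single]
  · show Φ U (Finsupp.single (T.vadd g p) 1) = _ + Φ U (Finsupp.single p 1)
    rw [← sub_eq_iff_eq_add, ← map_sub]
    have hmem : (Finsupp.single (T.vadd g p) 1 - Finsupp.single p 1 : T.P.obj.obj U →₀ ℤ) ∈ (aug T U).ker := by
      rw [AddMonoidHom.mem_ker, map_sub]; simp [aug]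
    refine (hcomp U ⟨_, hmem⟩).trans ?_
    rw [eta_eq T p]
    congr 1
    show wt T p (Finsupp.single (T.vadd g p) 1 - Finsupp.single p 1) = g
    rw [map_sub]
    simp [wt, diff_eq T (T.zero_vadd p), diff_eq T (rfl : T.vadd g p = T.vadd g p)]

theorem hasSection_of_ext_subsingleton (hS : S.ShortExact) [Injective S.X₂] [HasExt.{u} (Sheaf J AddCommGrpCat.{u})]
    [Subsingleton (Ext (Zc J) S.X₁ 1)] (T : Tors.Torsor S.X₁) : T.HasSection := by
  classical
  obtain ⟨f, hf, hfv⟩ := exists_equivariant T S.X₂ S.f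
  have hzero : ∀ U g, S.g.hom.app U (S.f.hom.app U g) = 0 := fun U g =>
    ConcreteCategory.congr_hom (congrArg (fun φ => φ.hom.app U) S.zero) g
  have hind : ∀ U p p', S.g.hom.app U (f U p) = S.g.hom.app U (f U p') := by
    intro U p p'
    rw [← diff_vadd T p p', hfv, map_add, hzero, zero_add]
  -- the glued section of the cokernel
  have hs : ∀ U : Cᵒᵖ, ∃! s : S.X₃.obj.obj U, ∀ (V : Cᵒᵖ) (a : U ⟶ V) p,
      S.X₃.obj.map a s = S.g.hom.app V (f V p) := by
    intro U
    obtain ⟨R, hR, hne⟩ := T.locally_nonempty U.unop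
    let q := fun V (a : V ⟶ U.unop) (ha : R a) => (hne a ha).some
    let x : Presieve.FamilyOfElements (S.X₃.obj ⋙ forget AddCommGrpCat.{u}) R.arrows := fun V a ha =>
      S.g.hom.app (op V) (f _ (q V a ha))
    have hx : x.Compatible := by
      intro Y₁ Y₂ Z g₁ g₂ f₁ f₂ h₁ h₂ w
      show S.X₃.obj.map g₁.op (S.g.hom.app _ (f _ (q Y₁ f₁ h₁))) = S.X₃.obj.map g₂.op (S.g.hom.app _ (f _ (q Y₂ f₂ h₂)))
      rw [← NatTrans.naturality_apply S.g.hom, ← NatTrans.naturality_apply S.g.hom, hf, hf]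
      exact hind _ _ _
    obtain ⟨s, hs, -⟩ := isSheafTypes S.X₃ R hR x hx
    have hprop : ∀ (V : Cᵒᵖ) (a : U ⟶ V) p, S.X₃.obj.map a s = S.g.hom.app V (f V p) := by
      intro V a p
      refine eq_of_locally (isSheafTypes S.X₃) (J.pullback_stable a.unop hR) fun W b hb => ?_
      show S.X₃.obj.map b.op (S.X₃.obj.map a s) = S.X₃.obj.map b.op (S.g.hom.app V (f V p))
      rw [← NatTrans.naturality_apply S.g.hom, hf]
      have h1 : S.X₃.obj.map (b ≫ a.unop).op s = S.g.hom.app (op W) (f _ (q W _ hb)) := hs (b ≫ a.unop) hb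
      rw [op_comp, Functor.map_comp, ConcreteCategory.comp_apply] at h1
      exact h1.trans (hind _ _ _)
    refine ⟨s, hprop, fun s' hs' => ?_⟩
    refine eq_of_locally (isSheafTypes S.X₃) hR fun V a ha => ?_
    exact (hs' _ a.op (q V a ha)).trans (hprop _ a.op (q V a ha)).symm
  choose s hs₁ hs₂ using hs
  have hfam : IsFamily S.X₃.obj s := fun U V a => hs₂ V _ fun W b p => by
    rw [← ConcreteCategory.comp_apply, ← Functor.map_comp]; exact hs₁ U W (a ≫ b) p
  obtain ⟨σ, hσ⟩ := exists_secs hfam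
  obtain ⟨x₂, hx₂⟩ := Ext.covariant_sequence_exact₃ (Zc J) hS (Ext.mk₀ σ) (show 0 + 1 = 1 from rfl)
    (Subsingleton.elim _ _)
  obtain ⟨τ, rfl⟩ := (Ext.mk₀_bijective _ _).2 x₂
  rw [Ext.mk₀_comp_mk₀] at hx₂
  have hτ : τ ≫ S.g = σ := (Ext.mk₀_bijective _ _).1 hx₂
  let i := secs τ
  have hi : ∀ U, S.g.hom.app U (i U) = s U := fun U => by rw [← secs_comp, hτ, hσ]
  -- the unique point over `i`
  have huniq : ∀ U (p p' : T.P.obj.obj U), f U p = i U → f U p' = i U → p = p' := by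
    intro U p p' h h'
    rw [← diff_vadd T p p', hfv, h', add_eq_right] at h
    rw [← diff_vadd T p p', f_injective hS U (h.trans (map_zero (S.f.hom.app U).hom).symm), T.zero_vadd]
  have hex : ∀ U : Cᵒᵖ, ∃ p : T.P.obj.obj U, f U p = i U := by
    intro U
    obtain ⟨R, hR, hne⟩ := T.locally_nonempty U.unop
    have hloc : ∀ ⦃V : C⦄ (a : V ⟶ U.unop), R a → ∃ p : T.P.obj.obj (op V), f _ p = i (op V) := by
      intro V a ha
      obtain ⟨q⟩ := hne a ha
      obtain ⟨g, hg⟩ := exists_of_g_eq_zero hS (x := i (op V) - f _ q) (by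
        have := hs₁ (op V) (op V) (𝟙 _) q
        rw [map_sub, hi, ← this]
        simp)
      exact ⟨T.vadd g q, by rw [hfv, hg, sub_add_cancel]⟩
    choose r hr using hloc
    let x : Presieve.FamilyOfElements T.P.obj R.arrows := fun V a ha => r a ha
    have hfam' := isFamily_secs τ
    have hx : x.Compatible := by
      intro Y₁ Y₂ Z g₁ g₂ f₁ f₂ h₁ h₂ w
      refine huniq _ _ _ ?_ ?_ <;> rw [← hf, hr] <;> exact hfam' _
    obtain ⟨p, hp, -⟩ := (isSheaf_iff_isSheaf_of_type _ _).1 T.P.property R hR x hx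
    refine ⟨p, eq_of_locally (isSheafTypes S.X₂) hR fun V a ha => ?_⟩
    show S.X₂.obj.map a.op (f U p) = S.X₂.obj.map a.op (i U)
    rw [hf, show T.P.obj.map a.op p = r a ha from hp a ha, hr]
    exact (hfam' a.op).symm
  choose pt hpt using hex
  exact hasSection_of_pts T pt fun U V a => huniq V _ _ (by rw [← hf, hpt]; exact isFamily_secs τ a) (hpt V)

end Groth.Agent.TorsH1
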